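import Groth.Prelude.Def_AlgGrp
import Groth.Agent.S0346
import Mathlib

/-!
# Quasi-compactness of homomorphisms with quasi-compact kernel
-/

set_option autoImplicit false
set_option linter.style.haveILetI false
universe u

open CategoryTheory CategoryTheory.Limits MonoidalCategory CartesianMonoidalCategory MonObj AlgebraicGeometry

namespace Groth.Agent.WeilQC

/-- `G ×_Q G ≅ G × ker q` -/
theorem isPullback_kernel {S : Scheme.{u}} {G H Q : Over S} [GrpObj G] [GrpObj Q]
    (h : H ⟶ G) (q : G ⟶ Q) [IsMonHom q] (hk : AlgGrp.IsKernel h q) :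
    IsPullback (fst G H) (fst G H * (snd G H ≫ h)) q q := by
  have hz : ∀ s : PullbackCone q q, (s.fst⁻¹ * s.snd) ≫ q = toUnit s.pt ≫ η[Q] := fun s ↦ by
    rw [MonObj.mul_comp, GrpObj.inv_comp, s.condition, inv_mul_cancel, Hom.one_def]
  have h1 : ∀ {T : Over S} (z : T ⟶ H), z ≫ h ≫ q = 1 := fun z => by
    rw [hk.w, ← Category.assoc, toUnit_unique (z ≫ toUnit H) (toUnit _), Hom.one_def]
  refine ⟨⟨?_⟩, ⟨PullbackCone.IsLimit.mk _
    (fun s ↦ lift s.fst (hk.lift (s.fst⁻¹ * s.snd) (toUnit _) (hz s)))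
    (fun s ↦ lift_fst _ _) (fun s ↦ ?_) (fun s m hm₁ hm₂ ↦ ?_)⟩⟩
  · rw [MonObj.mul_comp, Category.assoc, h1, _root_.mul_one]
  · rw [comp_mul, lift_fst, lift_snd_assoc, hk.lift_fst, mul_inv_cancel_left]
  · apply CartesianMonoidalCategory.hom_ext
    · rw [lift_fst, hm₁]
    · rw [lift_snd]
      apply hk.hom_ext
      · rw [hk.lift_fst, eq_inv_mul_iff_mul_eq, ← hm₁, ← hm₂, comp_mul, Category.assoc]
      · exact toUnit_unique _ _

/-- a quasi-compact morphism after a surjective base change with quasi-compact projection -/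
theorem quasiCompact_of_cover {X' X Y : Scheme.{u}} (π : X' ⟶ X) [Surjective π] (i : X ⟶ Y)
    [QuasiCompact (π ≫ i)] : QuasiCompact i := by
  refine ⟨fun U hU hUc => ?_⟩
  rw [← π.surjective.image_preimage (i ⁻¹' U)]
  exact (QuasiCompact.isCompact_preimage (f := π ≫ i) U hU hUc).image π.continuous

variable {k : Type u} [Field k]

/-- groups over a field are quasi-separated -/
theorem quasiSeparated_of_grpObj (G : Over (Spec (CommRingCat.of k))) [GrpObj G] : QuasiSeparated G.hom :=
  (S0346.result _ G).2.2 ⟨fun U _ _ => (Set.subsingleton_of_subsingleton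
    (α := PrimeSpectrum k)).finite.isCompact⟩

/-- a flat surjective homomorphism with quasi-compact kernel is quasi-compact -/
theorem quasiCompact_of_kernel {G Q N : Over (Spec (CommRingCat.of k))} [GrpObj G] [GrpObj Q]
    [LocallyOfFiniteType G.hom] [LocallyOfFiniteType Q.hom]
    (q : G ⟶ Q) [IsMonHom q] [Surjective q.left] [Flat q.left] (i : N ⟶ G) (hN : AlgGrp.IsKernel i q)
    [CompactSpace ↥N.left] : QuasiCompact q.left := by
  haveI : IsLocallyNoetherian Q.left := LocallyOfFiniteType.isLocallyNoetherian Q.hom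
  haveI : LocallyOfFiniteType q.left := by
    haveI : LocallyOfFiniteType (q.left ≫ Q.hom) := by rw [Over.w]; infer_instance
    exact locallyOfFiniteType_of_comp q.left Q.hom
  haveI : UniversallyOpen q.left := UniversallyOpen.of_flat q.left
  have hP : IsPullback (fst G N).left (fst G N * (snd G N ≫ i)).left q.left q.left :=
    (isPullback_kernel i q hN).map (Over.forget _)
  haveI : QuasiCompact N.hom := ⟨fun U hU hUc => by
    have hU' : IsClosed U := (Set.subsingleton_of_subsingleton (α := PrimeSpectrum k)).finite.isClosed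
    exact (hU'.preimage N.hom.continuous).isCompact⟩
  haveI : QuasiCompact (fst G N).left := by
    show QuasiCompact (pullback.fst G.hom N.hom)
    infer_instance
  refine ⟨fun U hU hUc => ?_⟩
  -- finitely many affines of the source cover the open set of the target
  have hcov : ∀ x : ↥Q.left, x ∈ U → ∃ W : G.left.Opens, IsCompact (W : Set ↥G.left) ∧
      (W : Set ↥G.left) ⊆ q.left ⁻¹' U ∧ x ∈ q.left '' W := fun x hx => by
    obtain ⟨g, rfl⟩ := q.left.surjective x
    obtain ⟨W, hW, hgW, hWU⟩ := exists_isAffineOpen_mem_and_subset (x := g)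
      (U := (⟨q.left ⁻¹' U, hU.preimage q.left.continuous⟩ : G.left.Opens)) hx
    exact ⟨W, hW.isCompact, hWU, g, hgW, rfl⟩
  choose W hWc hWU hxW using hcov
  obtain ⟨t, ht⟩ := hUc.elim_finite_subcover (fun x : U => q.left '' (W x.1 x.2))
    (fun x => q.left.isOpenMap _ (W x.1 x.2).2) fun x hx => Set.mem_iUnion.2 ⟨⟨x, hx⟩, hxW x hx⟩
  have heq : q.left ⁻¹' U =
      ⋃ x ∈ t, (fst G N * (snd G N ≫ i)).left '' ((fst G N).left ⁻¹' (W x.1 x.2 : Set ↥G.left)) := by
    refine Set.Subset.antisymm (fun g hg => ?_) (Set.iUnion₂_subset fun x _ => ?_)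
    · obtain ⟨x, hxt, w, hw, hwg⟩ := Set.mem_iUnion₂.1 (ht hg)
      obtain ⟨z, hz1, hz2⟩ := Scheme.Pullback.exists_preimage_pullback w g hwg
      refine Set.mem_iUnion₂.2 ⟨x, hxt, hP.isoPullback.inv z, ?_, ?_⟩
      · show (fst G N).left (hP.isoPullback.inv z) ∈ W x.1 x.2
        rw [show (fst G N).left (hP.isoPullback.inv z) = w by
          rw [← Scheme.Hom.comp_apply]; exact (congrArg (fun m => m z) hP.isoPullback_inv_fst).trans hz1]
        exact hw
      · rw [← Scheme.Hom.comp_apply]
        exact (congrArg (fun m => m z) hP.isoPullback_inv_snd).trans hz2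
    · rintro _ ⟨z, hz, rfl⟩
      show q.left ((fst G N * (snd G N ≫ i)).left z) ∈ U
      rw [← Scheme.Hom.comp_apply, ← show (fst G N).left ≫ q.left = _ from hP.w]
      exact hWU x.1 x.2 hz
  rw [heq]
  exact t.isCompact_biUnion fun x _ =>
    (QuasiCompact.isCompact_preimage (f := (fst G N).left) _ (W x.1 x.2).2 (hWc x.1 x.2)).image
      (Scheme.Hom.continuous _)

end Groth.Agent.WeilQC
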